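import Cfsg.Agent.H8.Shult.Sums

/-!
Abelian subgroups of groups with a centre of order two containing all commutators.
-/

set_option autoImplicit false

namespace Cfsg.Agent.H92.MonsterSeven

universe u

theorem card_sq_le_of_comm {P : Type u} [Group P] [Finite P] (h2 : Nat.card (Subgroup.center P) = 2)
    (hcm : ∀ a b : P, a * b * a⁻¹ * b⁻¹ ∈ Subgroup.center P)
    (H : Subgroup P) (hab : ∀ a ∈ H, ∀ b ∈ H, a * b = b * a) :
    Nat.card H * Nat.card H ≤ Nat.card P * 2 := by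
  classical
  obtain ⟨w, hw, huniq⟩ := (Nat.card_eq_two_iff' (1 : Subgroup.center P)).1 h2
  have hcases : ∀ c : Subgroup.center P, c = 1 ∨ c = w := fun c => (em (c = 1)).imp_right (huniq c)
  have hww : w * w = 1 := by
    rcases hcases (w * w) with h | h
    · exact h
    · exact absurd (mul_eq_left.1 h) hw
  let σ : Subgroup.center P →* ℤˣ :=
    { toFun := fun c => if c = 1 then 1 else -1
      map_one' := if_pos rfl
      map_mul' := fun c d => by
        rcases hcases c with rfl | rfl <;> rcases hcases d with rfl | rfl <;> simp [hw, hww] }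
  have hσ : ∀ c, σ c = 1 → c = 1 := fun c h => by
    by_contra hc
    have : σ c = -1 := if_neg hc
    rw [this] at h
    exact absurd h (by decide)
  let κ : P → P → Subgroup.center P := fun a b => ⟨a * b * a⁻¹ * b⁻¹, hcm a b⟩
  have hl : ∀ a a' b, κ (a * a') b = κ a b * κ a' b := fun a a' b => Subtype.ext (by
    show a * a' * b * (a * a')⁻¹ * b⁻¹ = a * b * a⁻¹ * b⁻¹ * (a' * b * a'⁻¹ * b⁻¹)
    have hc := Subgroup.mem_center_iff.1 (hcm a' b) a
    have hc' := Subgroup.mem_center_iff.1 (hcm a b) (a' * b * a'⁻¹ * b⁻¹)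
    calc a * a' * b * (a * a')⁻¹ * b⁻¹ = a * (a' * b * a'⁻¹ * b⁻¹) * (b * a⁻¹ * b⁻¹) := by group
      _ = a' * b * a'⁻¹ * b⁻¹ * (a * b * a⁻¹ * b⁻¹) := by rw [hc]; group
      _ = _ := hc')
  have hr : ∀ a b b', κ a (b * b') = κ a b * κ a b' := fun a b b' => Subtype.ext (by
    show a * (b * b') * a⁻¹ * (b * b')⁻¹ = a * b * a⁻¹ * b⁻¹ * (a * b' * a⁻¹ * b'⁻¹)
    have hc := Subgroup.mem_center_iff.1 (hcm a b') b
    calc a * (b * b') * a⁻¹ * (b * b')⁻¹ = a * b * a⁻¹ * (a * b' * a⁻¹ * b'⁻¹) * b⁻¹ := by group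
      _ = a * b * a⁻¹ * b⁻¹ * (b * (a * b' * a⁻¹ * b'⁻¹)) * b⁻¹ := by group
      _ = _ := by rw [hc]; group)
  let β : P →* P →* ℤˣ := MonoidHom.mk'
    (fun a => MonoidHom.mk' (fun b => σ (κ a b)) fun b b' => by rw [hr, map_mul])
    fun a a' => MonoidHom.ext fun b => by
      show σ (κ (a * a') b) = σ (κ a b) * σ (κ a' b)
      rw [hl, map_mul]
  have h := H8.Shult.card_sq_le_of_isotropic (β := β) H (fun x hx y hy => by
    show σ (κ x y) = 1
    rw [show κ x y = 1 from Subtype.ext (mul_inv_eq_one.2 (mul_inv_eq_iff_eq_mul.2 (hab x hx y hy))), map_one])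
  refine h.trans (Nat.mul_le_mul_left _ ?_)
  rw [← h2]
  refine Nat.le_of_dvd Nat.card_pos (Subgroup.card_dvd_of_le ?_)
  rintro s ⟨-, hs⟩
  refine Subgroup.mem_center_iff.2 fun a => ?_
  have h1 : a * s * a⁻¹ * s⁻¹ = 1 := congrArg Subtype.val (hσ _ ((H8.Shult.mem_radR.1 hs) a))
  exact mul_inv_eq_iff_eq_mul.1 (mul_inv_eq_one.1 h1)

end Cfsg.Agent.H92.MonsterSeven
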