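import Cfsg.Agent.H92.LeechOrbit

/-!
Data: two conjugate sign changes whose product has order seven modulo the centre and fixes a
class of squared length 64.
-/

set_option autoImplicit false

namespace Cfsg.Agent.H92.MonsterSeven

open Cfsg.Agent.H92.LeechOrbit

/-- the sign mask -/
def signMask : ℕ := 11190619

/-- the sign change -/
def signW : List Atom := [.mono 11190619 4971178824491965363024629777 984818244535754528103549039458486304]

/-- the conjugating word -/
def conjW : List Atom := [.zeta, .mono 525274 75557863725987623145488 765487769978073640709622346181946446, .zeta, .mono 69395 18446762838421733393 195001801341657205151687297682971233, .zeta, .mono 262637 4722366482874226446593 105926894157683898120454993003155080]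

/-- its inverse -/
def conjInvW : List Atom := [.mono 8966165 4951835716230507587541467393 762661289838734329965061092150435076, .zeta, .mono 9240913 4951840455818473961586491393 652329239817410250464523394726734852, .zeta, .mono 84464 18518819264514818048 858165535922551214962796648361985490, .zeta]

/-- the vector of squared length 64 -/
def fixN : ℕ := 43531645670959530237252765800

/-- a vector moved by the product to neither itself nor its negative -/
def movedN : ℕ := 62062060636173731114942761100

end Cfsg.Agent.H92.MonsterSeven
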