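import Cfsg.Agent.H92.MonsterSeven.Abelian
import Cfsg.Agent.H92.MonsterCross
import Cfsg.Agent.H65.MonsterFive.Group

/-!
Sign changes lift to involutions of the centraliser of the central involution.
-/

set_option autoImplicit false

namespace Cfsg.Agent.H92.MonsterSeven

open Cfsg Cfsg.Agent.Golay Cfsg.Agent.H92.LeechTwo Cfsg.Agent.H92.MonsterQ
open Cfsg.Agent.H65.MonsterFive (phi phi_eq_one joint_image joint_le)

variable {G : Type*} [Group G] [Finite G] {z : G}
  {Q : Subgroup (Subgroup.centralizer ({z} : Set G))} [Q.Normal]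
  {e : (Subgroup.centralizer ({z} : Set G)) ⧸ Q ≃* Spor.Co1}
  {ψ : leechLattice → Q ⧸ Subgroup.center Q}

theorem lift_sign (S : Setting z Q e ψ) {x : Q} (hx : ψ (axisVec none) = QuotientGroup.mk x) (c : SignSet) :
    ∃ h : Subgroup.centralizer ({z} : Set G), h * h = 1 ∧ phi e h = QuotientGroup.mk (signAut c) := by
  classical
  obtain ⟨hconj0, hne⟩ := isConj_of_type S hx (Cfsg.Agent.H92.LeechTwo.nrm_axis none)
  obtain ⟨g, hg⟩ := isConj_iff.1 hconj0
  obtain ⟨v, Sv, ι, hSc, hSle, hScen, -, hSsq, -, -, -, -, hSn, hX, hE, -, hJ⟩ :=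
    Cfsg.Agent.H92.MonsterCross.cross S g hg hne
  set π : Co0 →* Spor.Co1 := QuotientGroup.mk' (Subgroup.center Co0) with hπ
  have hD : ((Subgroup.centralizer ({z} : Set G)) ⊓ Subgroup.centralizer ({vG x} : Set G)).subgroupOf (Subgroup.centralizer ({z} : Set G)) =
      (Subgroup.centralizer ({z, vG x} : Set G)).subgroupOf (Subgroup.centralizer ({z} : Set G)) := by
    ext h
    simp only [Subgroup.mem_subgroupOf, Subgroup.mem_inf, Subgroup.mem_centralizer_iff]
    simp
  have heq : classStab v = crossStab := by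
    have h1 : (classStab v).map π = crossStab.map π := by
      rw [← joint_image S hx, ← hX, hD]
      rfl
    have h2 := congrArg (Subgroup.comap π) h1
    rw [Subgroup.comap_map_eq, Subgroup.comap_map_eq, hπ, QuotientGroup.ker_mk', sup_eq_left.2 (hScen.trans hSle),
      sup_eq_left.2 (center_le_crossStab.trans signs_le)] at h2
    exact h2
  have hSsigns : Sv = signs := by
    rcases normal_two_cases Sv (heq ▸ hSle) hScen (IsPGroup.of_card (n := 12) (by rw [hSc]; rfl))
      (fun γ hγ a ha => hSn γ (heq.symm ▸ hγ) a ha) with h | h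
    · rw [h, card_center_co0] at hSc
      norm_num at hSc
    · exact h
  obtain ⟨zQ, hzv, hz1, hz2, hZ⟩ := exists_zQ S
  set Qm := Q.map (Subgroup.centralizer ({z} : Set G)).subtype with hQm
  set R := Qm.map (MulAut.conj g).toMonoidHom with hR
  have hmem : π (signAut c) ∈ Sv.map π := ⟨_, hSsigns ▸ mem_signs.2 ⟨c, rfl⟩, rfl⟩
  rw [← hE] at hmem
  obtain ⟨a, ⟨haR, -⟩, hae⟩ := hmem
  have hae' : phi e a = QuotientGroup.mk (signAut c) := hae
  -- squares and commutators in the conjugate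
  have hcases : ∀ q : Q, q ∈ Subgroup.center Q → vG q = 1 ∨ vG q = z := fun q hq => by
    rcases (hZ q).1 hq with rfl | rfl
    · exact Or.inl rfl
    · exact Or.inr hzv
  have hRmem : ∀ r ∈ R, ∃ q : Q, r = g * vG q * g⁻¹ := by
    rintro _ ⟨_, ⟨q, hq, rfl⟩, rfl⟩
    exact ⟨⟨q, hq⟩, rfl⟩
  have hsq : ∀ r ∈ R, r * r = 1 ∨ r * r = vG x := fun r hr => by
    obtain ⟨q, rfl⟩ := hRmem r hr
    have h : g * vG q * g⁻¹ * (g * vG q * g⁻¹) = g * vG (q * q) * g⁻¹ := by
      show _ = g * (vG q * vG q) * g⁻¹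
      group
    rcases hcases _ (sq_center S q) with h' | h' <;> rw [h, h']
    · exact Or.inl (by group)
    · exact Or.inr hg
  have hcm : ∀ r ∈ R, ∀ r' ∈ R, r * r' * r⁻¹ * r'⁻¹ = 1 ∨ r * r' * r⁻¹ * r'⁻¹ = vG x := fun r hr r' hr' => by
    obtain ⟨q, rfl⟩ := hRmem r hr
    obtain ⟨q', rfl⟩ := hRmem r' hr'
    have h : g * vG q * g⁻¹ * (g * vG q' * g⁻¹) * (g * vG q * g⁻¹)⁻¹ * (g * vG q' * g⁻¹)⁻¹ =
        g * vG (q * q' * q⁻¹ * q'⁻¹) * g⁻¹ := by
      show _ = g * (vG q * vG q' * (vG q)⁻¹ * (vG q')⁻¹) * g⁻¹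
      group
    rcases hcases _ (comm_center S q q') with h' | h' <;> rw [h, h']
    · exact Or.inl (by group)
    · exact Or.inr hg
  rcases hsq _ haR with ha2 | ha2
  · exact ⟨a, Subtype.ext ha2, hae'⟩
  change (a : G) * (a : G) = vG x at ha2
  -- elements of the meeting
  set J := Qm ⊓ R with hJdef
  have hJq : ∀ b ∈ J, ∃ q : Q, vG q = b := fun b hb => by
    obtain ⟨q, hq, rfl⟩ := hb.1
    exact ⟨⟨q, hq⟩, rfl⟩
  have hJcm : ∀ b ∈ J, ∀ b' ∈ J, b * b' * b⁻¹ * b'⁻¹ = 1 := fun b hb b' hb' => by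
    rcases hcm b hb.2 b' hb'.2 with h | h
    · exact h
    obtain ⟨q, rfl⟩ := hJq b hb
    obtain ⟨q', rfl⟩ := hJq b' hb'
    rcases hcases _ (comm_center S q q') with h' | h'
    · exact h'
    · exact absurd (h.symm.trans h') hne
  have hJsq : ∀ b ∈ J, b * b = 1 := fun b hb => by
    rcases hsq b hb.2 with h | h
    · exact h
    obtain ⟨q, rfl⟩ := hJq b hb
    rcases hcases _ (sq_center S q) with h' | h'
    · exact h'
    · exact absurd (h.symm.trans h') hne
  by_cases hall : ∀ b ∈ J, (a : G) * b = b * a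
  swap
  · simp only [not_forall] at hall
    obtain ⟨b, hb, hab⟩ := hall
    obtain ⟨q, rfl⟩ := hJq b hb
    have hcs : (a : G) * vG q * (a : G)⁻¹ * (vG q)⁻¹ = vG x := by
      rcases hcm _ haR _ hb.2 with h | h
      · exact absurd (mul_inv_eq_iff_eq_mul.1 (mul_inv_eq_one.1 h)) hab
      · exact h
    refine ⟨a * (q : (Subgroup.centralizer ({z} : Set G))), Subtype.ext ?_, ?_⟩
    · show (a : G) * vG q * ((a : G) * vG q) = 1
      have hss : (vG x)⁻¹ = vG x := by
        rw [inv_eq_iff_mul_eq_one, ← hg, show g * z * g⁻¹ * (g * z * g⁻¹) = g * (z * z) * g⁻¹ by group,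
          ← pow_two, ← S.setting.1, pow_orderOf_eq_one]
        group
      calc (a : G) * vG q * ((a : G) * vG q)
          = (a : G) * ((a : G) * vG q * (a : G)⁻¹ * (vG q)⁻¹)⁻¹ * a * (vG q * vG q) := by group
        _ = (a : G) * vG x * a := by rw [hcs, hss, hJsq _ hb, mul_one]
        _ = (a : G) * (a * a) * a := by rw [ha2]
        _ = (a : G) * a * (a * a) := by group
        _ = 1 := by rw [ha2]; nth_rewrite 1 [← hss]; rw [inv_mul_cancel]
    · rw [map_mul, hae', phi_eq_one.2 q.2, mul_one]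
  exfalso
  -- otherwise there is a large abelian subgroup
  set j : Q →* G := (MulAut.conj g).toMonoidHom.comp ((Subgroup.centralizer ({z} : Set G)).subtype.comp Q.subtype) with hj
  have hjR : ∀ q, j q ∈ R := fun q => ⟨vG q, ⟨_, q.2, rfl⟩, rfl⟩
  have hjinj : Function.Injective j := fun q q' h => vG_injective ((MulAut.conj g).injective h)
  set K := Subgroup.closure ((J : Set G) ∪ {(a : G)}) with hK
  have hKab : ∀ u ∈ K, ∀ w ∈ K, u * w = w * u := by
    have h1 : ∀ u ∈ (J : Set G) ∪ {(a : G)}, ∀ w ∈ (J : Set G) ∪ {(a : G)}, u * w = w * u := by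
      rintro u (hu | rfl) w (hw | rfl)
      · exact mul_inv_eq_iff_eq_mul.1 (mul_inv_eq_one.1 (hJcm u hu w hw))
      · exact (hall u hu).symm
      · exact hall w hw
      · rfl
    intro u hu w hw
    haveI := Subgroup.isMulCommutative_closure h1
    exact congrArg Subtype.val (mul_comm' (⟨u, hu⟩ : K) ⟨w, hw⟩)
  have hKR : K ≤ R := (Subgroup.closure_le R).2 (by
    rintro u (hu | rfl)
    · exact hu.2
    · exact haR)
  have haJ : (a : G) ∉ J := fun h => by
    have := hJsq _ h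
    rw [ha2] at this
    rw [← hg] at this
    exact hz1 (vG_injective (hzv.trans (conj_eq_one_iff.1 this)))
  have hJK : J < K := lt_of_le_of_ne (fun u hu => Subgroup.subset_closure (Or.inl hu))
    fun h => haJ (h ▸ Subgroup.subset_closure (Or.inr rfl))
  have h14 : 2 ^ 14 ≤ Nat.card K := by
    obtain ⟨k, hk⟩ := Subgroup.card_dvd_of_le hJK.le
    rw [hk, show Nat.card J = 2 ^ 13 from hJ]
    rcases Nat.lt_or_ge k 2 with h | h
    · interval_cases k
      · exact absurd hk (by simpa using (Nat.card_pos (α := K)).ne')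
      · exact absurd (Subgroup.eq_of_le_of_card_ge hJK.le (by rw [hk, mul_one])) hJK.ne
    · omega
  have hK2 := card_sq_le_of_comm (cq S) (comm_center S) (K.comap j) (fun u hu w hw => hjinj (by
    rw [map_mul, map_mul]; exact hKab _ hu _ hw))
  have hKc : Nat.card K ≤ Nat.card (K.comap j) := by
    refine Nat.card_le_card_of_surjective (fun q => ⟨j q.1, q.2⟩) fun u => ?_
    obtain ⟨q, hq⟩ := hRmem _ (hKR u.2)
    refine ⟨⟨q, ?_⟩, Subtype.ext hq.symm⟩
    show j q ∈ K
    rw [show j q = (u : G) from hq.symm]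
    exact u.2
  rw [S.setting.2.2.2.1] at hK2
  have := Nat.mul_le_mul (h14.trans hKc) (h14.trans hKc)
  norm_num at this hK2
  omega

end Cfsg.Agent.H92.MonsterSeven
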