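import Cfsg.Agent.H92.MonsterSeven.Data
import Cfsg.Agent.H92.MonsterSeven.Lift

/-!
In a group of Monster type, an involution centralising the central involution inverts an element
of order seven that centralises another conjugate inside the extraspecial group.
-/

set_option autoImplicit false
set_option maxRecDepth 100000

namespace Cfsg.Agent.H92.MonsterSeven

open Cfsg Cfsg.Agent.Golay Cfsg.Agent.H92.LeechOrbit Cfsg.Agent.H92.LeechTwo Cfsg.Agent.H92.MonsterQ
open Cfsg.Agent.H65.MonsterFive (phi phi_eq_one twist testN eq_of_test wordEl_append appWord negEl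
  negEl_smul negEl_center negEl_ne_one)

/-- the code of the negative -/
def negN (n : ℕ) : ℕ := mk16 24 fun i => 16 - fld n i

/-- repeat a word -/
def repW : ℕ → List Atom → List Atom
  | 0, _ => []
  | n + 1, w => w ++ repW n w

/-- the product of the two sign changes as a word -/
def prodW : List Atom := conjInvW ++ signW ++ conjW ++ signW

theorem atoms_ok : signW.all atomOK = true ∧ conjW.all atomOK = true ∧ conjInvW.all atomOK = true := by
  decide +kernel

theorem inv_check : ∀ n ∈ testN, chk (conjInvW ++ conjW) n n = true := by decide +kernel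

theorem seven_check : ∀ n ∈ testN, inLeech (dec n) = true ∧ chk (repW 7 prodW) n (negN n) = true ∧
    (∀ q, dec (negN n) q = -dec n q) := by
  decide +kernel

theorem moved_check : movedN ∈ testN ∧ chk prodW movedN (appWord prodW movedN) = true ∧
    (∃ q, dec (appWord prodW movedN) q ≠ dec movedN q) ∧
    (∃ q, dec (appWord prodW movedN) q ≠ -dec movedN q) := by
  decide +kernel

theorem fix_check : inLeech (dec fixN) = true ∧ chk prodW fixN (negN fixN) = true ∧
    sqNorm (dec fixN) = 64 ∧ (∀ q, dec (negN fixN) q = -dec fixN q) ∧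
    inCode signMask = true ∧ signMask < 2 ^ 24 := by
  decide +kernel

theorem id_check : inM24 idTblVal = true ∧ (∀ q, pt (app idTblVal (idx q)) = q) := by decide +kernel

theorem prodW_ok : prodW.all atomOK = true := by
  simp only [prodW, List.all_append, atoms_ok.1, atoms_ok.2.1, atoms_ok.2.2, Bool.and_self]

theorem repW_ok : ∀ n, (repW n prodW).all atomOK = true
  | 0 => rfl
  | n + 1 => by rw [repW, List.all_append, prodW_ok, repW_ok n]; rfl

theorem wordEl_repW (w : List Atom) : ∀ n, wordEl (repW n w) = wordEl w ^ n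
  | 0 => rfl
  | n + 1 => by rw [repW, wordEl_append, wordEl_repW w n, pow_succ]

/-- the sign set -/
def signC : SignSet :=
  ⟨ptSet signMask, (ptSet_mem_supports_iff fix_check.2.2.2.2.2).2 (inCode_iff.1 fix_check.2.2.2.2.1)⟩

theorem wordEl_signW : wordEl signW = signAut signC := by
  have h : mkPerm idTblVal = 1 := Equiv.ext fun q =>
    (mkPerm_apply (validT_of_inM24 id_check.1) q).trans (id_check.2 q)
  have h1 : permAut ⟨mkPerm idTblVal, mem_M24_of_inM24 id_check.1⟩ = 1 := by
    rw [show (⟨mkPerm idTblVal, mem_M24_of_inM24 id_check.1⟩ : M24) = 1 from Subtype.ext h]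
    exact map_one permHom
  simp only [signW, wordEl, atomEl, one_mul]
  rw [dif_pos ⟨fix_check.2.2.2.2.1, fix_check.2.2.2.2.2, id_check.1⟩]
  show signAut signC * permAut ⟨mkPerm idTblVal, mem_M24_of_inM24 id_check.1⟩ = _
  rw [h1, mul_one]

theorem wordEl_conjInvW : wordEl conjInvW = (wordEl conjW)⁻¹ := by
  have hok : (conjInvW ++ conjW).all atomOK = true := by
    rw [List.all_append, atoms_ok.2.1, atoms_ok.2.2]; rfl
  have h : wordEl (conjInvW ++ conjW) = 1 := eq_of_test fun n hn v hv => by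
    rw [one_smul]
    exact Subtype.ext ((chk_sound hok (inv_check n hn) hv).trans hv.symm)
  rw [wordEl_append] at h
  exact eq_inv_of_mul_eq_one_right h

theorem wordEl_prodW : wordEl prodW =
    signAut signC * (wordEl conjW * signAut signC * (wordEl conjW)⁻¹) := by
  rw [prodW, wordEl_append, wordEl_append, wordEl_append, wordEl_signW, wordEl_conjInvW]
  group

theorem prod_pow_seven : wordEl prodW ^ 7 ∈ Subgroup.center Co0 := by
  have h : wordEl (repW 7 prodW) = negEl := eq_of_test fun n hn v hv => Subtype.ext (by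
    rw [chk_sound (repW_ok 7) (seven_check n hn).2.1 hv, negEl_smul]
    funext q
    rw [(seven_check n hn).2.2, ← congrFun hv q]
    rfl)
  rw [← wordEl_repW, h]
  exact negEl_center

theorem prod_not_center : wordEl prodW ∉ Subgroup.center Co0 := by
  intro h
  obtain ⟨hn, hc, ⟨q, hq⟩, ⟨r, hr⟩⟩ := moved_check
  let v : leechLattice := ⟨dec movedN, mem_of_inLeech (seven_check _ hn).1⟩
  have e := chk_sound prodW_ok hc (v := v) rfl
  obtain ⟨w, hw, huniq⟩ := (Nat.card_eq_two_iff' (1 : Subgroup.center Co0)).1 card_center_co0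
  rcases em ((⟨wordEl prodW, h⟩ : Subgroup.center Co0) = 1) with h' | h'
  · rw [show wordEl prodW = 1 from congrArg Subtype.val h', one_smul] at e
    exact hq (congrFun e q).symm
  · have hneg : wordEl prodW = negEl := congrArg Subtype.val ((huniq _ h').trans
      (huniq ⟨negEl, negEl_center⟩ fun h0 => negEl_ne_one (congrArg Subtype.val h0)).symm)
    rw [hneg, negEl_smul] at e
    exact hr (congrFun e r).symm

theorem prod_fix : ∃ v : leechLattice, nrm v = 64 ∧ Cg (wordEl prodW • v) v := by
  let v : leechLattice := ⟨dec fixN, mem_of_inLeech fix_check.1⟩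
  have e : wordEl prodW • v = -v := Subtype.ext (by
    rw [chk_sound prodW_ok fix_check.2.1 (v := v) rfl]
    exact funext fix_check.2.2.2.1)
  refine ⟨v, fix_check.2.2.1, ?_⟩
  rw [e]
  exact ⟨-v, by abel⟩

variable {G : Type*} [Group G] [Finite G] {z : G}
  {Q : Subgroup (Subgroup.centralizer ({z} : Set G))} [Q.Normal]
  {e : (Subgroup.centralizer ({z} : Set G)) ⧸ Q ≃* Spor.Co1}
  {ψ : leechLattice → Q ⧸ Subgroup.center Q}

/-- the inverting involution -/
theorem exists_inverter (S : Setting z Q e ψ) {x : Q} (hx : ψ (axisVec none) = QuotientGroup.mk x) :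
    ∃ b t : G, orderOf b = 7 ∧ b ∈ Subgroup.centralizer ({z, vG x} : Set G) ∧
      t ∈ Subgroup.centralizer ({z} : Set G) ∧ orderOf t = 2 ∧ t * b * t⁻¹ = b⁻¹ := by
  classical
  obtain ⟨X, hX2, hXe⟩ := lift_sign S hx signC
  obtain ⟨γ, hγ⟩ := exists_lift S (wordEl conjW)
  have hγ' : phi e γ = QuotientGroup.mk (wordEl conjW) := hγ.symm
  set Y := γ * X * γ⁻¹ with hY
  have hY2 : Y * Y = 1 := by
    rw [hY, show γ * X * γ⁻¹ * (γ * X * γ⁻¹) = γ * (X * X) * γ⁻¹ by group, hX2]; group
  set d := X * Y with hd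
  have hde : phi e d = QuotientGroup.mk (wordEl prodW) := by
    rw [hd, hY, wordEl_prodW, map_mul, map_mul, map_mul, map_inv, hXe, hγ']
    rfl
  have hd7 : d ^ 7 ∈ Q := phi_eq_one.1 (by
    rw [map_pow, hde, ← QuotientGroup.mk_pow]
    exact (QuotientGroup.eq_one_iff _).2 prod_pow_seven)
  have hd28 : d ^ 28 = 1 := by
    obtain ⟨zQ, -, -, hz2, hZ⟩ := exists_zQ S
    have h := sq_center S ⟨_, hd7⟩
    have h4 : ((⟨_, hd7⟩ : Q) * ⟨_, hd7⟩) * (⟨_, hd7⟩ * ⟨_, hd7⟩) = 1 := by
      rcases (hZ _).1 h with h' | h' <;> rw [h']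
      · exact one_mul 1
      · exact hz2
    have := congrArg Subtype.val h4
    change d ^ 7 * d ^ 7 * (d ^ 7 * d ^ 7) = 1 at this
    rwa [← pow_add, ← pow_add] at this
  have hXd : X * d * X⁻¹ = d⁻¹ := by
    rw [hd, inv_eq_of_mul_eq_one_left hX2, mul_inv_rev, inv_eq_of_mul_eq_one_left hX2,
      inv_eq_of_mul_eq_one_left hY2, ← mul_assoc, hX2, one_mul]
  set b := d ^ 4 with hb
  have hb7 : orderOf b = 7 := by
    haveI : Fact (Nat.Prime 7) := ⟨by norm_num⟩
    refine orderOf_eq_prime (by rw [hb, ← pow_mul, hd28]) fun h0 => ?_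
    apply prod_not_center
    have h1 : phi e d ^ 7 = 1 := by rw [← map_pow]; exact phi_eq_one.2 hd7
    have h2 : phi e d ^ 4 = 1 := by rw [← map_pow, show d ^ 4 = 1 from h0, map_one]
    have h3 : phi e d = 1 := by
      have e8 : phi e d ^ 8 = 1 := by rw [show (8 : ℕ) = 4 * 2 from rfl, pow_mul, h2, one_pow]
      rwa [pow_succ, h1, one_mul] at e8
    rw [hde] at h3
    exact (QuotientGroup.eq_one_iff _).1 h3
  -- the fixed class
  obtain ⟨v, hv64, hvd⟩ := prod_fix
  obtain ⟨y, hy⟩ := QuotientGroup.mk_surjective (ψ v)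
  have e1 := psi_smul S (g := wordEl prodW) (h := d) hde.symm hy.symm
  rw [(psi_cg S).2 hvd, ← hy] at e1
  obtain ⟨zQ, hzv, -, hz2, hZ⟩ := exists_zQ S
  have hzc : ∀ u : G, u ∈ Subgroup.centralizer ({z} : Set G) → u * z = z * u :=
    fun u hu => Subgroup.mem_centralizer_singleton_iff.1 hu
  have hdy : (d : G) * vG y * (d : G)⁻¹ = vG y ∨ (d : G) * vG y * (d : G)⁻¹ = vG y * z := by
    have h := QuotientGroup.eq.1 e1
    rcases (hZ _).1 h with h' | h'
    · exact Or.inl (congrArg vG (inv_mul_eq_one.1 h').symm)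
    · have := congrArg vG (inv_mul_eq_iff_eq_mul.1 h')
      change (d : G) * vG y * (d : G)⁻¹ = vG y * vG zQ at this
      exact Or.inr (by rw [this, hzv])
  have hd2y : ((d : G) * d) * vG y = vG y * ((d : G) * d) := by
    rcases hdy with h | h
    · have h' : (d : G) * vG y = vG y * d := mul_inv_eq_iff_eq_mul.1 h
      rw [mul_assoc, h', ← mul_assoc, h', mul_assoc]
    · have h' : (d : G) * vG y = vG y * z * d := mul_inv_eq_iff_eq_mul.1 h
      have hzz : z * z = 1 := by rw [← pow_two, ← S.setting.1, pow_orderOf_eq_one]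
      calc (d : G) * d * vG y = (d : G) * (vG y * z * d) := by rw [mul_assoc, h']
        _ = (d : G) * vG y * z * d := by group
        _ = vG y * z * ((d : G) * z) * d := by rw [h']; group
        _ = vG y * (z * z) * ((d : G) * d) := by rw [hzc _ d.2]; group
        _ = vG y * ((d : G) * d) := by rw [hzz, mul_one]
  have hby : (b : G) * vG y = vG y * b := by
    rw [hb, Subgroup.coe_pow, show (4 : ℕ) = 2 * 2 from rfl, pow_mul, pow_two (d : G)]
    exact ((show Commute ((d : G) * d) (vG y) from hd2y).pow_left 2).eq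
  obtain ⟨k, hk⟩ := conj_of_same S hy.symm hx (Or.inr ⟨hv64, Cfsg.Agent.H92.LeechTwo.nrm_axis none⟩)
  refine ⟨(k : G) * b * (k : G)⁻¹, (k : G) * X * (k : G)⁻¹, ?_, ?_, (k * X * k⁻¹).2, ?_, ?_⟩
  · rw [show orderOf ((k : G) * b * (k : G)⁻¹) = orderOf (b : G) from (MulAut.conj (k : G)).orderOf_eq _,
      Subgroup.orderOf_coe, hb7]
  · rw [Subgroup.mem_centralizer_iff]
    rintro u (rfl | rfl)
    · exact (Subgroup.mem_centralizer_singleton_iff.1 (k * b * k⁻¹).2).symm
    · rw [← hk]
      calc (k : G) * vG y * (k : G)⁻¹ * ((k : G) * b * (k : G)⁻¹) = (k : G) * (vG y * b) * (k : G)⁻¹ := by group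
        _ = _ := by rw [← hby]; group
  · rw [show orderOf ((k : G) * X * (k : G)⁻¹) = orderOf (X : G) from (MulAut.conj (k : G)).orderOf_eq _,
      Subgroup.orderOf_coe]
    refine orderOf_eq_prime (by rw [pow_two, hX2]) fun h0 => ?_
    -- otherwise the product would be trivial
    have hd0 : d = 1 := by rw [hd, hY, h0]; group
    rw [hb, hd0, one_pow, orderOf_one] at hb7
    norm_num at hb7
  · have hX : X * b * X⁻¹ = b⁻¹ := by rw [hb, ← conj_pow, hXd, inv_pow]
    have hXG : (X : G) * (b : G) * (X : G)⁻¹ = (b : G)⁻¹ := congrArg Subtype.val hX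
    calc (k : G) * X * (k : G)⁻¹ * ((k : G) * b * (k : G)⁻¹) * ((k : G) * X * (k : G)⁻¹)⁻¹
        = (k : G) * ((X : G) * b * (X : G)⁻¹) * (k : G)⁻¹ := by group
      _ = _ := by rw [hXG]; group

end Cfsg.Agent.H92.MonsterSeven
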