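import Cfsg.Agent.H92.MonsterSeven.Perm
import Cfsg.Agent.H65.MonsterFive.Group

/-!
The joint centraliser of two commuting conjugates of the central involution, mapped onto the
Mathieu group; its elements of order seven.
-/

set_option autoImplicit false

namespace Cfsg.Agent.H92.MonsterSeven

open Cfsg Cfsg.Agent.Golay Cfsg.Agent.H92.LeechTwo Cfsg.Agent.H92.MonsterQ
open Cfsg.Agent.H65.MonsterFive (phi phi_eq_one lift_axis joint_image joint_le)

theorem conj_zpowers {G : Type*} [Group G] [Finite G] {L : Subgroup G} (h49 : ¬ 49 ∣ Nat.card L)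
    {b c : G} (hb : b ∈ L) (hc : c ∈ L) (hb7 : orderOf b = 7) (hc7 : orderOf c = 7) :
    ∃ l ∈ L, l * c * l⁻¹ ∈ Subgroup.zpowers b := by
  haveI : Fact (Nat.Prime 7) := ⟨by norm_num⟩
  have mk : ∀ d : L, orderOf (d : G) = 7 → ∃ P : Sylow 7 L, (P : Subgroup L) = Subgroup.zpowers d := by
    intro d hd
    rw [Subgroup.orderOf_coe] at hd
    have hp : IsPGroup 7 (Subgroup.zpowers d) := IsPGroup.of_card (n := 1) (by rw [Nat.card_zpowers, hd, pow_one])
    have hi : ¬ 7 ∣ (Subgroup.zpowers d).index := fun h => by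
      apply h49
      have := (Subgroup.zpowers d).card_mul_index
      rw [Nat.card_zpowers, hd] at this
      rw [← this]
      exact Nat.mul_dvd_mul_left 7 h
    exact ⟨hp.toSylow hi, rfl⟩
  obtain ⟨P, hP⟩ := mk ⟨b, hb⟩ hb7
  obtain ⟨R, hR⟩ := mk ⟨c, hc⟩ hc7
  obtain ⟨l, hl⟩ := MulAction.exists_smul_eq L R P
  refine ⟨l.1, l.2, ?_⟩
  have h1 : (⟨c, hc⟩ : L) ∈ (R : Subgroup L) := hR ▸ Subgroup.mem_zpowers _
  have h2 : MulAut.conj l ⟨c, hc⟩ ∈ (P : Subgroup L) := by
    rw [← hl, Sylow.coe_subgroup_smul]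
    exact Subgroup.smul_mem_pointwise_smul _ _ _ h1
  rw [hP] at h2
  obtain ⟨i, hi⟩ := Subgroup.mem_zpowers_iff.1 h2
  exact Subgroup.mem_zpowers_iff.2 ⟨i, congrArg (fun u : L => (u : G)) hi⟩

section mathieu

/-- the group of the code -/
theorem exists_conj_power {M : Type*} [Group M] [Finite M] (h49 : ¬ 49 ∣ Nat.card M) {u w : M}
    (hu : orderOf u = 7) (hw : orderOf w = 7) : ∃ (c : M) (i : ℕ), c * u * c⁻¹ = w ^ i := by
  classical
  obtain ⟨l, -, hl⟩ := conj_zpowers (L := (⊤ : Subgroup M)) (by rwa [Subgroup.card_top])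
    (Subgroup.mem_top w) (Subgroup.mem_top u) hw hu
  obtain ⟨i, hi⟩ := (mem_zpowers_iff_mem_range_orderOf.1 hl) |> Finset.mem_image.1
  exact ⟨l, i, hi.2.symm⟩

variable (h49 : ¬ 49 ∣ Nat.card M24)

include h49

/-- no element of order seven of the Mathieu group is inverted -/
theorem not_inverted_all {u : M24} (hu : orderOf u = 7) (σ : M24) : σ * u * σ⁻¹ ≠ u⁻¹ := by
  intro h
  obtain ⟨c, i, hc⟩ := exists_conj_power h49 orderOf_seven hu
  refine not_inverted (c⁻¹ * σ * c) ?_
  have hs : seven = c⁻¹ * u ^ i * c := by rw [← hc]; group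
  calc c⁻¹ * σ * c * seven * (c⁻¹ * σ * c)⁻¹ = c⁻¹ * (σ * u * σ⁻¹) ^ i * c := by
        rw [hs, conj_pow]; group
    _ = seven⁻¹ := by rw [h, hs, inv_pow]; group

/-- every element of order seven is carried to its square -/
theorem squared_all {u : M24} (hu : orderOf u = 7) : ∃ σ : M24, σ * u * σ⁻¹ = u ^ 2 := by
  obtain ⟨c, i, hc⟩ := exists_conj_power h49 hu orderOf_seven
  refine ⟨c⁻¹ * squarer * c, ?_⟩
  have hu' : u = c⁻¹ * seven ^ i * c := by rw [← hc]; group
  calc c⁻¹ * squarer * c * u * (c⁻¹ * squarer * c)⁻¹ = c⁻¹ * (squarer * seven * squarer⁻¹) ^ i * c := by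
        rw [hu', conj_pow]; group
    _ = c⁻¹ * seven ^ i * c * (c⁻¹ * seven ^ i * c) := by
        rw [squarer_conj, ← pow_mul, two_mul, pow_add]; group
    _ = u ^ 2 := by rw [← hu', pow_two]

end mathieu

variable {G : Type*} [Group G] [Finite G] {z : G}
  {Q : Subgroup (Subgroup.centralizer ({z} : Set G))} [Q.Normal]
  {e : (Subgroup.centralizer ({z} : Set G)) ⧸ Q ≃* Spor.Co1}
  {ψ : leechLattice → Q ⧸ Subgroup.center Q}

/-- the joint centraliser maps onto the Mathieu group, the seventh part of its order is seven -/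
theorem exists_onto (S : Setting z Q e ψ) {x : Q} (hx : ψ (axisVec none) = QuotientGroup.mk x) :
    ∃ f : Subgroup.centralizer ({z, vG x} : Set G) →* M24, Function.Surjective f ∧
      ¬ 7 ∣ Nat.card f.ker ∧ 7 ∣ Nat.card (Subgroup.centralizer ({z, vG x} : Set G)) ∧
      ¬ 49 ∣ Nat.card (Subgroup.centralizer ({z, vG x} : Set G)) ∧ ¬ 49 ∣ Nat.card M24 := by
  classical
  set L := Subgroup.centralizer ({z, vG x} : Set G) with hL
  set π : Co0 →* Spor.Co1 := QuotientGroup.mk' (Subgroup.center Co0)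
  set H : Subgroup Spor.Co1 := crossStab.map π with hH
  have hsurj : Function.Surjective (π.subgroupMap crossStab) := π.subgroupMap_surjective crossStab
  have hker : (π.subgroupMap crossStab).ker ≤ permOf.ker := fun g hg => by
    have hg' : π g.1 = 1 := congrArg (fun w : H => (w : Spor.Co1)) (MonoidHom.mem_ker.1 hg)
    obtain ⟨w, hw, hwg⟩ := center_le_crossStab ((QuotientGroup.eq_one_iff g.1).1 hg')
    have : w = g := Subtype.ext hwg
    exact this ▸ hw
  set p1 : H →* M24 := (π.subgroupMap crossStab).liftOfSurjective hsurj ⟨permOf, hker⟩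
  have hp1 : ∀ g : crossStab, p1 (π.subgroupMap crossStab g) = permOf g :=
    fun g => MonoidHom.liftOfRightInverse_comp_apply _ _ _ ⟨permOf, hker⟩ g
  set φ₀ : L →* Spor.Co1 := (phi e).comp (Subgroup.inclusion (joint_le x))
  have himg : ∀ h : L, φ₀ h ∈ H := fun h => by
    rw [hH, ← joint_image S hx]
    exact ⟨⟨h.1, joint_le x h.2⟩, Subgroup.mem_subgroupOf.2 h.2, rfl⟩
  set f : L →* M24 := p1.comp (φ₀.codRestrict H himg)
  have hfs : Function.Surjective f := fun σ => by
    obtain ⟨h, hh, hh2⟩ := lift_axis S hx (permAut_mem σ)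
    have hL' : (h : G) ∈ L := by
      rw [hL, Subgroup.mem_centralizer_iff]
      rintro u (rfl | rfl)
      · exact (Subgroup.mem_centralizer_singleton_iff.1 h.2).symm
      · exact hh2.symm
    refine ⟨⟨h, hL'⟩, ?_⟩
    have : φ₀.codRestrict H himg ⟨h, hL'⟩ = π.subgroupMap crossStab ⟨permAut σ, permAut_mem σ⟩ :=
      Subtype.ext hh
    show p1 _ = σ
    rw [this, hp1, permOf_permAut]
  -- orders
  have h1 := Cfsg.Agent.H92.MonsterCross.card_map_mul (phi e) (L.subgroupOf (Subgroup.centralizer ({z} : Set G)))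
  rw [joint_image S hx, Cfsg.Agent.H92.MonsterCross.card_subgroupOf (joint_le x)] at h1
  have h2 := Cfsg.Agent.H92.MonsterCross.card_map_mul π crossStab
  rw [QuotientGroup.ker_mk', inf_eq_right.2 (center_le_crossStab.trans signs_le), card_center_co0,
    card_crossStab] at h2
  have hk2 : Nat.card ↥(L.subgroupOf (Subgroup.centralizer ({z} : Set G)) ⊓ (phi e).ker) ∣ 2 ^ 25 := by
    rw [← S.setting.2.2.2.1]
    exact Subgroup.card_dvd_of_le (fun h hh => phi_eq_one.1 (MonoidHom.mem_ker.1 hh.2))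
  obtain ⟨k, -, hk⟩ := (Nat.dvd_prime_pow Nat.prime_two).1 hk2
  rw [hk] at h1
  have h3 : Nat.card ↥(crossStab.map π) = 7 * 71628226560 := by omega
  rw [h3] at h1
  have h7 : 7 ∣ Nat.card L := h1 ▸ (dvd_mul_right 7 _).trans (dvd_mul_right _ _)
  have h49 : ¬ 49 ∣ Nat.card L := fun h => by
    rw [← h1] at h
    have := (Nat.Coprime.pow_right k (by norm_num : Nat.Coprime 49 2)).dvd_of_dvd_mul_right h
    norm_num at this
  have h4 := f.ker.card_mul_index
  rw [Subgroup.index_ker, MonoidHom.range_eq_top.2 hfs, Subgroup.card_top] at h4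
  have h49M : ¬ 49 ∣ Nat.card M24 := fun h => h49 (h4 ▸ h.trans (dvd_mul_left _ _))
  refine ⟨f, hfs, fun h => h49 ?_, h7, h49, h49M⟩
  rw [← h4]
  exact Nat.mul_dvd_mul h (orderOf_seven ▸ orderOf_dvd_natCard seven)

variable (S : Setting z Q e ψ) {x : Q} (hx : ψ (axisVec none) = QuotientGroup.mk x)

include S hx

/-- no element of the joint centraliser inverts an element of order seven -/
theorem joint_not_inverted {b u : G} (hb : b ∈ Subgroup.centralizer ({z, vG x} : Set G))
    (hu : u ∈ Subgroup.centralizer ({z, vG x} : Set G)) (hb7 : orderOf b = 7) :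
    u * b * u⁻¹ ≠ b⁻¹ := by
  intro h
  haveI : Fact (Nat.Prime 7) := ⟨by norm_num⟩
  obtain ⟨f, -, hker, -, -, h49⟩ := exists_onto S hx
  have hfb : orderOf (f ⟨b, hb⟩) = 7 := by
    have h1 : orderOf (⟨b, hb⟩ : Subgroup.centralizer ({z, vG x} : Set G)) = 7 := by rw [Subgroup.orderOf_mk, hb7]
    refine orderOf_eq_prime (by rw [← map_pow, ← h1, pow_orderOf_eq_one, map_one]) fun h0 => hker ?_
    rw [← h1]
    exact Subgroup.orderOf_dvd_natCard _ (MonoidHom.mem_ker.2 h0)
  refine not_inverted_all h49 hfb (f ⟨u, hu⟩) ?_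
  rw [← map_inv, ← map_mul, ← map_mul, ← map_inv]
  exact congrArg f (Subtype.ext h)

/-- some element of the joint centraliser carries an element of order seven to its square -/
theorem joint_squared {b : G} (hb : b ∈ Subgroup.centralizer ({z, vG x} : Set G)) (hb7 : orderOf b = 7) :
    ∃ n ∈ Subgroup.centralizer ({z, vG x} : Set G), n * b * n⁻¹ = b ^ 2 := by
  haveI : Fact (Nat.Prime 7) := ⟨by norm_num⟩
  classical
  obtain ⟨f, hf, hker, -, hL49, h49⟩ := exists_onto S hx
  let L := Subgroup.centralizer ({z, vG x} : Set G)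
  change L →* M24 at f
  set β : L := ⟨b, hb⟩
  have hβ : orderOf β = 7 := by rw [Subgroup.orderOf_mk, hb7]
  have hfb : orderOf (f β) = 7 := by
    refine orderOf_eq_prime (by rw [← map_pow, ← hβ, pow_orderOf_eq_one, map_one]) fun h0 => hker ?_
    rw [← hβ]
    exact Subgroup.orderOf_dvd_natCard _ (MonoidHom.mem_ker.2 h0)
  obtain ⟨σ, hσ⟩ := squared_all h49 hfb
  obtain ⟨n0, rfl⟩ := hf σ
  set M : Subgroup L := (Subgroup.zpowers (f β)).comap f
  have hcM : n0 * β * n0⁻¹ ∈ M := by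
    show f (n0 * β * n0⁻¹) ∈ Subgroup.zpowers (f β)
    rw [map_mul, map_mul, map_inv, hσ]
    exact pow_mem (Subgroup.mem_zpowers _) 2
  obtain ⟨k, hkM, hk⟩ := conj_zpowers (L := M)
    (fun h => hL49 (h.trans (Subgroup.card_subgroup_dvd_card M)))
    (show β ∈ M from Subgroup.mem_zpowers (f β)) hcM hβ
    (((MulAut.conj n0).orderOf_eq β).trans hβ)
  obtain ⟨i, hi⟩ := (mem_zpowers_iff_mem_range_orderOf.1 hk) |> Finset.mem_image.1
  refine ⟨((k * n0 : L) : G), (k * n0).2, ?_⟩
  have hcomm : f k * f β ^ 2 = f β ^ 2 * f k := by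
    obtain ⟨j, hj⟩ := Subgroup.mem_zpowers_iff.1 hkM
    rw [← hj]
    exact (((Commute.refl (f β)).zpow_left j).pow_right 2).eq
  have e1 : f β ^ i = f β ^ 2 := by
    rw [← map_pow, hi.2]
    simp only [map_mul, map_inv, hσ]
    rw [hcomm, mul_inv_cancel_right]
  have e2 : β ^ i = β ^ 2 := by
    rw [pow_eq_pow_iff_modEq, hβ]
    rwa [pow_eq_pow_iff_modEq, hfb] at e1
  have e3 : k * n0 * β * (k * n0)⁻¹ = β ^ 2 := by
    rw [← e2, hi.2]; group
  exact congrArg (fun w : L => (w : G)) e3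

end Cfsg.Agent.H92.MonsterSeven
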