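import Cfsg.Agent.H92.MonsterSeven.Joint
import Cfsg.Agent.H92.MonsterSeven.Inverter
import Cfsg.Agent.Components.Basic
import Cfsg.Agent.S1258

/-!
The automizer of a seven-element of the joint centraliser in a group of Monster type.
-/

set_option autoImplicit false

namespace Cfsg.Agent.H92.MonsterSeven

open Cfsg Cfsg.Agent.Golay Cfsg.Agent.H92.LeechTwo Cfsg.Agent.H92.MonsterQ
open Cfsg.Agent.H65.MonsterFive (twist)

variable {G : Type*} [Group G] [Finite G]

theorem card_mulAut_seven {B : Subgroup G} (hB : Nat.card B = 7) : Nat.card (MulAut B) = 6 := by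
  haveI : Fact (Nat.Prime 7) := ⟨by norm_num⟩
  haveI : IsCyclic B := isCyclic_of_prime_card hB
  rw [IsCyclic.card_mulAut, hB]
  rfl

/-- an inverting element and a squaring element give the full automorphism group -/
theorem relIndex_six {B : Subgroup G} (hB : Nat.card B = 7) {b t n : G} (hb : Subgroup.zpowers b = B)
    (ht : t * b * t⁻¹ = b⁻¹) (hn : n * b * n⁻¹ = b ^ 2) :
    (Subgroup.centralizer (B : Set G)).relIndex (Subgroup.normalizer (B : Set G)) = 6 := by
  classical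
  have hbB : b ∈ B := hb ▸ Subgroup.mem_zpowers b
  have hob : orderOf b = 7 := by rw [← Nat.card_zpowers, hb, hB]
  have hnorm : ∀ g : G, g * b * g⁻¹ ∈ B → g ∈ Subgroup.normalizer (B : Set G) := fun g hg => by
    refine Subgroup.mem_normalizer_iff_map_conj_eq.2 (Subgroup.eq_of_le_of_card_ge ?_
      (le_of_eq (Subgroup.card_map_of_injective (MulAut.conj g).injective).symm))
    rw [← hb, MonoidHom.map_zpowers, Subgroup.zpowers_le]
    exact hb ▸ hg
  have htN := hnorm t (ht ▸ inv_mem hbB)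
  have hnN := hnorm n (hn ▸ pow_mem hbB 2)
  set f := B.normalizerMonoidHom
  have hval : ∀ (g : Subgroup.normalizer (B : Set G)) (u : B), (f g u : G) = g * u * (g : G)⁻¹ :=
    fun g u => rfl
  have hext : ∀ g g' : Subgroup.normalizer (B : Set G),
      (g : G) * b * (g : G)⁻¹ = g' * b * (g' : G)⁻¹ → f g = f g' := by
    intro g g' h
    refine MulEquiv.ext fun u => Subtype.ext ?_
    obtain ⟨i, hi⟩ := Subgroup.mem_zpowers_iff.1 (hb.ge u.2)
    rw [hval, hval, ← hi, ← conj_zpow, ← conj_zpow, h]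
  have hne : ∀ g : Subgroup.normalizer (B : Set G), (g : G) * b * (g : G)⁻¹ ≠ b → f g ≠ 1 :=
    fun g hg h => hg ((hval g ⟨b, hbB⟩).symm.trans (by rw [h]; rfl))
  have hpow : ∀ i : ℕ, b ^ i = b → i % 7 = 1 := fun i h => by
    have := pow_eq_pow_iff_modEq.1 (h.trans (pow_one b).symm).symm
    rw [hob] at this
    exact this.symm
  have h2 : orderOf (f ⟨t, htN⟩) = 2 := by
    refine orderOf_eq_prime ?_ (hne _ fun h => ?_)
    · rw [← map_pow, ← map_one f]
      refine hext _ _ ?_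
      show t ^ 2 * b * (t ^ 2)⁻¹ = 1 * b * 1⁻¹
      calc t ^ 2 * b * (t ^ 2)⁻¹ = t * (t * b * t⁻¹) * t⁻¹ := by rw [pow_two]; group
        _ = (t * b * t⁻¹)⁻¹ := by rw [ht]; nth_rewrite 2 [← ht]; group
        _ = 1 * b * 1⁻¹ := by rw [ht, inv_inv]; group
    · have h' : b ^ 6 = b := by
        refine Eq.trans (eq_inv_of_mul_eq_one_left ?_) (ht.symm.trans h)
        rw [← pow_succ, show (6 : ℕ) + 1 = 7 from rfl, ← hob, pow_orderOf_eq_one]
      have := hpow 6 h'
      omega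
  have h3 : orderOf (f ⟨n, hnN⟩) = 3 := by
    haveI : Fact (Nat.Prime 3) := ⟨Nat.prime_three⟩
    refine orderOf_eq_prime ?_ (hne _ fun h => ?_)
    · rw [← map_pow, ← map_one f]
      refine hext _ _ ?_
      show n ^ 3 * b * (n ^ 3)⁻¹ = 1 * b * 1⁻¹
      have h8 : b ^ 8 = b := by rw [pow_succ, ← hob, pow_orderOf_eq_one, one_mul]
      calc n ^ 3 * b * (n ^ 3)⁻¹ = n * (n * (n * b * n⁻¹) * n⁻¹) * n⁻¹ := by rw [pow_succ, pow_two]; group
        _ = b ^ 8 := by rw [hn, ← conj_pow, hn, ← conj_pow, ← conj_pow, hn]; simp only [← pow_mul]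
        _ = 1 * b * 1⁻¹ := by rw [h8]; group
    · have := hpow 2 (hn.symm.trans h)
      omega
  have h6 : 6 ∣ Nat.card f.range := by
    have a2 : 2 ∣ Nat.card f.range := h2 ▸ Subgroup.orderOf_dvd_natCard _ ⟨_, rfl⟩
    have a3 : 3 ∣ Nat.card f.range := h3 ▸ Subgroup.orderOf_dvd_natCard _ ⟨_, rfl⟩
    omega
  have hle : Nat.card f.range ∣ 6 := card_mulAut_seven hB ▸ Subgroup.card_subgroup_dvd_card _
  rw [Subgroup.relIndex, ← Subgroup.normalizerMonoidHom_ker, Subgroup.index_ker]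
  exact Nat.dvd_antisymm hle h6

/-- an element of the group commuting with the seven-element whose quotient by it is simple gives
membership of involutions in the layer -/
theorem mem_layer {X : Type*} [Group X] [Finite X] (A : Subgroup X) [A.Normal]
    (hA : A ≤ Subgroup.center X) (hA7 : ∀ a ∈ A, a ^ 7 = 1) (hs : IsSimpleGroup (X ⧸ A))
    (hna : ∃ a b : X ⧸ A, a * b ≠ b * a) {w : X} (hw : w * w = 1) : w ∈ Cfsg.layer X := by
  have hZ : Subgroup.center X = A := by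
    refine le_antisymm ?_ hA
    haveI := hs
    rcases Subgroup.Normal.eq_bot_or_eq_top (Subgroup.Normal.map (inferInstance : (Subgroup.center X).Normal)
      (QuotientGroup.mk' A) (QuotientGroup.mk'_surjective A)) with h | h
    · rw [Subgroup.map_eq_bot_iff, QuotientGroup.ker_mk'] at h
      exact h
    · exfalso
      obtain ⟨a, b, hab⟩ := hna
      obtain ⟨c, hc, rfl⟩ := h.ge (Subgroup.mem_top a)
      obtain ⟨d, rfl⟩ := QuotientGroup.mk'_surjective A b
      exact hab (by rw [← map_mul, ← map_mul, Subgroup.mem_center_iff.1 hc d])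
  subst hZ
  obtain ⟨htop, hq⟩ := S1258.result hs (fun h => by
    obtain ⟨a, b, hab⟩ := hna
    exact hab (h.is_comm.comm a b))
  have hle : commutator X ≤ Cfsg.layer X :=
    Components.component_le_layer ⟨Subgroup.Normal.isSubnormal inferInstance, hq⟩
  obtain ⟨d, hd, c, hc, rfl⟩ := Subgroup.mem_sup_of_normal_left.1 (htop.ge (Subgroup.mem_top w))
  refine hle ?_
  have hcd : Commute d c := Subgroup.mem_center_iff.1 hc d
  have e : d * c = d ^ 7 := by
    calc d * c = (d * c) ^ 7 := by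
          rw [show (7 : ℕ) = 2 * 3 + 1 from rfl, pow_succ, pow_mul, pow_two, hw, one_pow, one_mul]
      _ = d ^ 7 := by rw [hcd.mul_pow, hA7 c hc, mul_one]
  rw [e]
  exact pow_mem hd 7

/-- the automizer, given that the centraliser modulo the seven-group is simple -/
theorem automizer {z : G} {Q : Subgroup (Subgroup.centralizer ({z} : Set G))} [Q.Normal]
    (hM : Cfsg.IsOfMonsterType z Q) {s : G}
    (hsQ : ∃ hsc : s ∈ Subgroup.centralizer ({z} : Set G), (⟨s, hsc⟩ : Subgroup.centralizer ({z} : Set G)) ∈ Q)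
    (hs : IsConj z s) (hs1 : s ≠ z) {B : Subgroup G} (hB : B ≤ Subgroup.centralizer ({z, s} : Set G))
    (hBp : Nat.card B = 7 ^ (Nat.card ↥(Subgroup.centralizer ({z, s} : Set G))).factorization 7)
    (hsimple : ∀ _ : (B.subgroupOf (Subgroup.centralizer (B : Set G))).Normal,
      IsSimpleGroup (↥(Subgroup.centralizer (B : Set G)) ⧸ B.subgroupOf (Subgroup.centralizer (B : Set G))) ∧
      ∃ a b : ↥(Subgroup.centralizer (B : Set G)) ⧸ B.subgroupOf (Subgroup.centralizer (B : Set G)),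
        a * b ≠ b * a) :
    (Subgroup.centralizer (B : Set G)).relIndex (Subgroup.normalizer (B : Set G)) = 6 ∧
    ∃ t : G, orderOf t = 2 ∧ (∀ b ∈ B, t * b * t⁻¹ = b⁻¹) ∧
      (∀ x ∈ (Cfsg.layer ↥(Subgroup.centralizer (B : Set G))).map (Subgroup.centralizer (B : Set G)).subtype,
        t * x * t⁻¹ ∈ (Cfsg.layer ↥(Subgroup.centralizer (B : Set G))).map (Subgroup.centralizer (B : Set G)).subtype) ∧
      ¬ ∃ l ∈ (Cfsg.layer ↥(Subgroup.centralizer (B : Set G))).map (Subgroup.centralizer (B : Set G)).subtype,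
        ∀ x ∈ (Cfsg.layer ↥(Subgroup.centralizer (B : Set G))).map (Subgroup.centralizer (B : Set G)).subtype,
          t * x * t⁻¹ = l * x * l⁻¹ := by
  classical
  obtain ⟨hS, e, ψ, hiso⟩ := hM
  have S : Setting z Q e ψ := ⟨hS, hiso⟩
  obtain ⟨hsc, hsq⟩ := hsQ
  obtain ⟨x, rfl⟩ : ∃ x : Q, vG x = s := ⟨⟨⟨s, hsc⟩, hsq⟩, rfl⟩
  obtain ⟨v, hv, hn64⟩ := conj_z_type S hs hs1
  obtain ⟨γ, hγ⟩ := orbit_sixtyfour hn64 (Cfsg.Agent.H92.LeechTwo.nrm_axis none)
  obtain ⟨e1, ψ1, S1, hψ1, -⟩ := twist S γ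
  have hx : ψ1 (axisVec none) = QuotientGroup.mk x := by rw [← (psi_cg S1).2 hγ, hψ1, hv]
  obtain ⟨-, -, -, h7, h49, -⟩ := exists_onto S1 hx
  set L := Subgroup.centralizer ({z, vG x} : Set G) with hL
  have hfac : (Nat.card L).factorization 7 = 1 := by
    have hne : Nat.card L ≠ 0 := Nat.card_pos.ne'
    have h1 : 1 ≤ (Nat.card L).factorization 7 :=
      ((by norm_num : Nat.Prime 7).pow_dvd_iff_le_factorization hne).1 (by rwa [pow_one])
    have h2 : ¬ 2 ≤ (Nat.card L).factorization 7 := fun h =>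
      h49 (((by norm_num : Nat.Prime 7).pow_dvd_iff_le_factorization hne).2 h)
    omega
  rw [hfac, pow_one] at hBp
  haveI : Fact (Nat.Prime 7) := ⟨by norm_num⟩
  obtain ⟨b0, t0, hb0, hb0L, ht0, ht02, hinv⟩ := exists_inverter S1 hx
  obtain ⟨⟨c, hc⟩, hc7⟩ := exists_prime_orderOf_dvd_card' (G := B) 7 (by rw [hBp])
  rw [Subgroup.orderOf_mk] at hc7
  obtain ⟨l, hlL, hl⟩ := conj_zpowers h49 (hB hc) hb0L hc7 hb0
  set b := l * b0 * l⁻¹
  have hb7 : orderOf b = 7 := ((MulAut.conj l).orderOf_eq b0).trans hb0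
  have hbB : b ∈ B := (Subgroup.zpowers_le.2 hc) hl
  have hzB : Subgroup.zpowers b = B := Subgroup.eq_of_le_of_card_ge (Subgroup.zpowers_le.2 hbB)
    (by rw [Nat.card_zpowers, hb7, hBp])
  have memL : ∀ u : G, u ∈ L ↔ u * z = z * u ∧ u * vG x = vG x * u := by
    intro u
    rw [hL, Subgroup.mem_centralizer_iff]
    constructor
    · intro h; exact ⟨(h z (by simp)).symm, (h _ (by simp)).symm⟩
    · rintro ⟨h1, h2⟩ w (rfl | rfl)
      · exact h1.symm
      · exact h2.symm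
  set t := l * t0 * l⁻¹ with ht
  have hto : orderOf t = 2 := ((MulAut.conj l).orderOf_eq t0).trans ht02
  have htz : t * z = z * t := Subgroup.mem_centralizer_singleton_iff.1
    (mul_mem (mul_mem (Subgroup.mem_centralizer_singleton_iff.2 ((memL l).1 hlL).1) ht0)
      (inv_mem (Subgroup.mem_centralizer_singleton_iff.2 ((memL l).1 hlL).1)))
  have htb : t * b * t⁻¹ = b⁻¹ := by
    calc t * b * t⁻¹ = l * (t0 * b0 * t0⁻¹) * l⁻¹ := by rw [ht]; simp only [b]; group
      _ = b⁻¹ := by rw [hinv]; simp only [b]; group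
  have hall : ∀ c ∈ B, t * c * t⁻¹ = c⁻¹ := by
    intro c hc
    obtain ⟨i, rfl⟩ := Subgroup.mem_zpowers_iff.1 (hzB.ge hc)
    rw [← conj_zpow, htb, inv_zpow]
  obtain ⟨n, -, hn⟩ := joint_squared S1 hx (hB hbB) hb7
  refine ⟨relIndex_six hBp hzB htb hn, t, hto, hall, ?_⟩
  set X := Subgroup.centralizer (B : Set G) with hX
  have htX : ∀ w ∈ X, t * w * t⁻¹ ∈ X := fun w hw => Subgroup.mem_centralizer_iff.2 fun c hc => by
    have h1 : c⁻¹ * w = w * c⁻¹ := Subgroup.mem_centralizer_iff.1 hw _ (inv_mem hc)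
    have e1 : c = t * c⁻¹ * t⁻¹ := by rw [hall _ (inv_mem hc), inv_inv]
    calc c * (t * w * t⁻¹) = t * c⁻¹ * t⁻¹ * (t * w * t⁻¹) := by rw [← e1]
      _ = t * (c⁻¹ * w) * t⁻¹ := by group
      _ = t * (w * c⁻¹) * t⁻¹ := by rw [h1]
      _ = t * w * t⁻¹ * (t * c⁻¹ * t⁻¹) := by group
      _ = t * w * t⁻¹ * c := by rw [← e1]
  have htt : t * t = 1 := by rw [← pow_two, ← hto, pow_orderOf_eq_one]
  let τ : X ≃* X :=
    { toFun := fun w => ⟨t * w * t⁻¹, htX w w.2⟩
      invFun := fun w => ⟨t * w * t⁻¹, htX w w.2⟩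
      left_inv := fun w => Subtype.ext (by
        show t * (t * (w : G) * t⁻¹) * t⁻¹ = w
        rw [show t * (t * (w : G) * t⁻¹) * t⁻¹ = (t * t) * w * (t * t)⁻¹ by group, htt]; group)
      right_inv := fun w => Subtype.ext (by
        show t * (t * (w : G) * t⁻¹) * t⁻¹ = w
        rw [show t * (t * (w : G) * t⁻¹) * t⁻¹ = (t * t) * w * (t * t)⁻¹ by group, htt]; group)
      map_mul' := fun w w' => Subtype.ext (by
        show t * ((w : G) * w') * t⁻¹ = t * (w : G) * t⁻¹ * (t * w' * t⁻¹); group) }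
  refine ⟨?_, ?_⟩
  · rintro _ ⟨w, hw, rfl⟩
    exact ⟨τ w, (Components.map_layer_equiv τ).le ⟨w, hw, rfl⟩, rfl⟩
  rintro ⟨_, ⟨m, hm, rfl⟩, hml⟩
  -- the subgroup is central
  set A := B.subgroupOf X
  have hBcomm : ∀ c ∈ B, ∀ d ∈ B, c * d = d * c := fun c hc d hd => by
    obtain ⟨i, rfl⟩ := Subgroup.mem_zpowers_iff.1 (hzB.ge hc)
    obtain ⟨j, rfl⟩ := Subgroup.mem_zpowers_iff.1 (hzB.ge hd)
    exact zpow_mul_comm b i j
  have hA : A ≤ Subgroup.center X := fun a ha => Subgroup.mem_center_iff.2 fun w =>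
    Subtype.ext (Subgroup.mem_centralizer_iff.1 w.2 (a : G) ha).symm
  haveI hAn : A.Normal := ⟨fun a ha w => by
    rw [show w * a * w⁻¹ = a by rw [Subgroup.mem_center_iff.1 (hA ha) w, mul_inv_cancel_right]]
    exact ha⟩
  obtain ⟨hsimp, hna⟩ := hsimple hAn
  have hA7 : ∀ a ∈ A, a ^ 7 = 1 := fun a ha => Subtype.ext (by
    have h := pow_card_eq_one' (G := B) (x := ⟨a, ha⟩)
    rw [hBp] at h
    show (a : G) ^ 7 = 1
    exact congrArg (fun u : B => (u : G)) h)
  have hlay : ∀ w : G, w * w = 1 → (∀ c ∈ B, c * w = w * c) →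
      w ∈ (Cfsg.layer X).map X.subtype := fun w hw hwc =>
    ⟨⟨w, Subgroup.mem_centralizer_iff.2 hwc⟩, mem_layer A hA hA7 hsimp hna (Subtype.ext hw), rfl⟩
  have hzz : z * z = 1 := by rw [← pow_two, ← hS.1, pow_orderOf_eq_one]
  obtain ⟨g, hg⟩ := isConj_iff.1 hs
  have hss : vG x * vG x = 1 := by
    rw [← hg, show g * z * g⁻¹ * (g * z * g⁻¹) = g * (z * z) * g⁻¹ by group, hzz]; group
  have e1 := hml z (hlay z hzz fun c hc => ((memL c).1 (hB hc)).1)
  have e2 := hml (vG x) (hlay _ hss fun c hc => ((memL c).1 (hB hc)).2)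
  change t * z * t⁻¹ = (m : G) * z * (m : G)⁻¹ at e1
  change t * vG x * t⁻¹ = (m : G) * vG x * (m : G)⁻¹ at e2
  have hu : (m : G)⁻¹ * t ∈ L := (memL _).2 ⟨by
      calc (m : G)⁻¹ * t * z = (m : G)⁻¹ * (t * z * t⁻¹) * t := by group
        _ = z * ((m : G)⁻¹ * t) := by rw [e1]; group,
    by
      calc (m : G)⁻¹ * t * vG x = (m : G)⁻¹ * (t * vG x * t⁻¹) * t := by group
        _ = vG x * ((m : G)⁻¹ * t) := by rw [e2]; group⟩
  refine joint_not_inverted S1 hx (hB hbB) hu hb7 ?_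
  have hmb : b⁻¹ * (m : G) = (m : G) * b⁻¹ := Subgroup.mem_centralizer_iff.1 m.2 _ (inv_mem hbB)
  calc (m : G)⁻¹ * t * b * ((m : G)⁻¹ * t)⁻¹ = (m : G)⁻¹ * (t * b * t⁻¹) * m := by group
    _ = b⁻¹ := by rw [htb, mul_assoc, hmb, inv_mul_cancel_left]

end Cfsg.Agent.H92.MonsterSeven
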