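import Cfsg.Agent.H92.LeechOrbit
import Cfsg.Agent.Golay.Simple

/-!
Elements of order seven of the Mathieu group of degree 24: none is inverted, every one is carried
to its square.
-/

set_option autoImplicit false
set_option maxRecDepth 100000

namespace Cfsg.Agent.H92.MonsterSeven

open Cfsg Cfsg.Agent.Golay
open scoped Pointwise

/-- the table of a seven-element -/
def sevenT : ℕ := 314180524345738920675549918675457634

/-- a table carrying it to its square -/
def squareT : ℕ := 59189243898722429773134786533119200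

theorem tables_ok : inM24 sevenT = true ∧ inM24 squareT = true := by decide +kernel

/-- a seven-element -/
noncomputable def seven : M24 := ⟨mkPerm sevenT, mem_M24_of_inM24 tables_ok.1⟩

/-- an element carrying it to its square -/
noncomputable def squarer : M24 := ⟨mkPerm squareT, mem_M24_of_inM24 tables_ok.2⟩

/-- its action -/
def sevenF : GolayPt → GolayPt := tblFun sevenT

theorem seven_apply (q : GolayPt) : seven.1 q = sevenF q := mkPerm_apply (validT_of_inM24 tables_ok.1) q

theorem seven_pow_apply (n : ℕ) (q : GolayPt) : (seven ^ n).1 q = sevenF^[n] q := by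
  induction n with
  | zero => rfl
  | succ n ih =>
    rw [pow_succ', Function.iterate_succ_apply', ← ih, ← seven_apply]
    rfl

theorem seven_facts : (∀ q, sevenF^[7] q = q) ∧ (∃ q, sevenF q ≠ q) := by decide +kernel

theorem orderOf_seven : orderOf seven = 7 := by
  haveI : Fact (Nat.Prime 7) := ⟨by norm_num⟩
  refine orderOf_eq_prime (Subtype.ext (Equiv.ext fun q => ?_)) fun h => ?_
  · rw [seven_pow_apply, seven_facts.1]; rfl
  · obtain ⟨q, hq⟩ := seven_facts.2
    exact hq ((seven_apply q).symm.trans (by rw [h]; rfl))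

theorem squarer_conj : squarer * seven * squarer⁻¹ = seven ^ 2 := by
  rw [mul_inv_eq_iff_eq_mul]
  refine Subtype.ext (Equiv.ext fun q => ?_)
  show squarer.1 (seven.1 q) = (seven ^ 2).1 (squarer.1 q)
  rw [seven_pow_apply, seven_apply, squarer]
  simp only [mkPerm_apply (validT_of_inM24 tables_ok.2)]
  have h : ∀ q, pt (app squareT (idx (sevenF q))) = sevenF^[2] (pt (app squareT (idx q))) := by
    decide +kernel
  exact h q

/-- the fixed points -/
def fixP (i : Fin 3) : GolayPt := pt ([3, 6, 9].getD i.1 0)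

/-- a point in each cycle -/
def cycP (i : Fin 3) : GolayPt := pt ([0, 4, 8].getD i.1 0)

theorem seven_orbits :
    (∀ i, sevenF (fixP i) = fixP i) ∧ (∀ q, sevenF q = q → ∃ i, q = fixP i) ∧
    (∀ q, ∃ i, q = fixP i ∨ ∃ n : Fin 7, q = sevenF^[n.1] (cycP i)) ∧
    (∀ i, ∀ n : Fin 7, ∀ j, sevenF^[n.1] (cycP i) ≠ fixP j) ∧
    (∀ i j : Fin 3, fixP i = fixP j → i = j) ∧
    (∀ i j : Fin 3, ∀ n : Fin 7, sevenF^[n.1] (cycP i) = cycP j → i = j) := by
  decide +kernel

/-- the candidate for an inverting permutation, from its values on the fixed points and on one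
point in each cycle -/
def candF (a : Fin 3 → GolayPt) (b : Fin 3 → GolayPt) (q : GolayPt) : GolayPt :=
  if q = fixP 0 then a 0 else if q = fixP 1 then a 1 else if q = fixP 2 then a 2 else
    let l := ((List.range 3).flatMap fun i => (List.range 7).map fun n => (i, n))
    match l.find? fun p => sevenF^[p.2] (cycP (Fin.ofNat 3 p.1)) = q with
    | some p => sevenF^[(7 - p.2) % 7] (b (Fin.ofNat 3 p.1))
    | none => q

/-- the image of a mask under a function on the points -/
def fnImg (f : GolayPt → GolayPt) (m : ℕ) : ℕ :=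
  (List.range 24).foldl (fun acc i => acc ||| (bif m.testBit i then 2 ^ idx (f (pt i)) else 0)) 0

theorem candF_spec : ∀ (i : Fin 3) (a b : Fin 3 → GolayPt),
    (∀ n : Fin 7, candF a b (sevenF^[n.1] (cycP i)) = sevenF^[(7 - n.1) % 7] (b i)) ∧
    candF a b (fixP i) = a i := by
  intro i a b
  have h : ∀ i : Fin 3, (∀ n : Fin 7, (sevenF^[n.1] (cycP i) ≠ fixP 0 ∧
        sevenF^[n.1] (cycP i) ≠ fixP 1 ∧ sevenF^[n.1] (cycP i) ≠ fixP 2) ∧
      (((List.range 3).flatMap fun k => (List.range 7).map fun m => (k, m)).find? fun p =>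
        sevenF^[p.2] (cycP (Fin.ofNat 3 p.1)) = sevenF^[n.1] (cycP i)) = some (i.1, n.1)) := by
    decide +kernel
  refine ⟨fun n => ?_, ?_⟩
  · obtain ⟨⟨h0, h1, h2⟩, h3⟩ := h i n
    rw [candF, if_neg h0, if_neg h1, if_neg h2]
    simp only [h3]
    rw [Fin.ofNat_eq_cast, Fin.cast_val_eq_self]
  · have hd : fixP 1 ≠ fixP 0 ∧ fixP 2 ≠ fixP 0 ∧ fixP 2 ≠ fixP 1 := by decide +kernel
    rw [candF]
    fin_cases i
    · simp
    · simp [hd.1]
    · simp [hd.2.1, hd.2.2]

/-- the six orders of three -/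
def perms3 : List (List ℕ) := [[0, 1, 2], [0, 2, 1], [1, 0, 2], [1, 2, 0], [2, 0, 1], [2, 1, 0]]

theorem no_candidate : ∀ π ∈ perms3, ∀ ρ ∈ perms3, ∀ n1 n2 : Fin 7,
    (basisList.all fun b => inCode (fnImg (candF (fun i => fixP (Fin.ofNat 3 (π.getD i.1 0)))
      (fun i => sevenF^[[0, n1.1, n2.1].getD i.1 0] (cycP (Fin.ofNat 3 (ρ.getD i.1 0))))) b)) = false := by
  decide +kernel

theorem perms3_spec : ∀ f : Fin 3 → Fin 3, (∀ i j, f i = f j → i = j) →
    ∃ π ∈ perms3, ∀ i, Fin.ofNat 3 (π.getD i.1 0) = f i := by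
  decide +kernel

theorem fnImg_eq (σ : M24) {f : GolayPt → GolayPt} (hf : ∀ q, σ.1 q = f q) {m : ℕ} :
    ptSet (fnImg f m) = σ.1 • ptSet m := by
  ext p
  rw [mem_ptSet, mem_smul_finset_iff, mem_ptSet]
  have key : ∀ (l : List ℕ) (acc : ℕ), ((l.foldl (fun acc i => acc |||
      (bif m.testBit i then 2 ^ idx (f (pt i)) else 0)) acc).testBit (idx p) = true ↔
      acc.testBit (idx p) = true ∨ ∃ i ∈ l, m.testBit i = true ∧ f (pt i) = p) := by
    intro l
    induction l with
    | nil => simp
    | cons i t ih =>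
      intro acc
      rw [List.foldl_cons, ih, Nat.testBit_or, Bool.or_eq_true]
      cases hm : m.testBit i
      · simp [hm]
      · simp only [cond_true, Nat.testBit_two_pow, decide_eq_true_eq, idx_injective.eq_iff,
          List.mem_cons, exists_eq_or_imp, hm, true_and, or_assoc]
  rw [fnImg, key]
  simp only [Nat.zero_testBit, Bool.false_eq_true, false_or, List.mem_range]
  constructor
  · rintro ⟨i, hi, hm, hp⟩
    rw [← hp, ← hf, Equiv.symm_apply_apply, idx_pt i hi]
    exact hm
  · intro h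
    exact ⟨idx (σ.1.symm p), idx_lt _, h, by rw [pt_idx, ← hf, Equiv.apply_symm_apply]⟩

/-- nothing inverts the seven-element -/
theorem not_inverted (σ : M24) : σ * seven * σ⁻¹ ≠ seven⁻¹ := by
  intro hσ
  obtain ⟨hfix, hfix', hcov, hne, hfinj, hcinj⟩ := seven_orbits
  -- a power of the element makes the first base point go to a base point
  have hpowinv : ∀ n : ℕ, (σ * seven ^ n) * seven * (σ * seven ^ n)⁻¹ = seven⁻¹ := fun n => by
    rw [← hσ]; group
  have comm : ∀ τ : M24, τ * seven * τ⁻¹ = seven⁻¹ → ∀ q, sevenF (τ.1 (sevenF q)) = τ.1 q := by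
    intro τ hτ q
    have h1 : seven * (τ * seven) = τ := by
      rw [mul_inv_eq_iff_eq_mul] at hτ
      rw [hτ]; group
    conv_rhs => rw [← h1]
    show sevenF (τ.1 (sevenF q)) = seven.1 (τ.1 (seven.1 q))
    rw [seven_apply, seven_apply]
  have fixI : ∀ τ : M24, τ * seven * τ⁻¹ = seven⁻¹ → ∀ i, ∃ j, τ.1 (fixP i) = fixP j := by
    intro τ hτ i
    refine hfix' _ ?_
    conv_lhs => rw [← hfix i]
    exact comm τ hτ _
  have cycI : ∀ τ : M24, τ * seven * τ⁻¹ = seven⁻¹ → ∀ i, ∃ j, ∃ n : Fin 7,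
      τ.1 (cycP i) = sevenF^[n.1] (cycP j) := by
    intro τ hτ i
    obtain ⟨j, h | ⟨n, h⟩⟩ := hcov (τ.1 (cycP i))
    · exfalso
      have h1 := comm τ hτ (cycP i)
      rw [h] at h1
      have h2 : τ.1 (sevenF (cycP i)) = τ.1 (cycP i) := by
        rw [h]
        have h3 : seven.1 (τ.1 (sevenF (cycP i))) = seven.1 (fixP j) := by
          rw [seven_apply, seven_apply, hfix, h1]
        exact seven.1.injective h3
      obtain ⟨k, hk⟩ := hfix' _ (τ.1.injective h2)
      exact hne i 0 k hk
    · exact ⟨j, n, h⟩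
  obtain ⟨j0, n0, hj0⟩ := cycI σ hσ 0
  set τ := σ * seven ^ n0.1 with hτdef
  have hτ := hpowinv n0.1
  have iter : ∀ (n : ℕ) (q), sevenF^[n] (τ.1 (sevenF^[n] q)) = τ.1 q := by
    intro n
    induction n with
    | zero => simp
    | succ n ih =>
      intro q
      rw [Function.iterate_succ_apply sevenF n (τ.1 _), Function.iterate_succ_apply' sevenF n q,
        comm τ hτ, ih]
  have back : ∀ (q) (n : Fin 7), τ.1 (sevenF^[n.1] q) = sevenF^[(7 - n.1) % 7] (τ.1 q) := fun q n => by
    rw [← iter n.1 q, ← Function.iterate_add_apply]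
    have : ∀ (n : Fin 7) (q : GolayPt), sevenF^[(7 - n.1) % 7 + n.1] q = q := by decide +kernel
    rw [this]
  have hτ0 : τ.1 (cycP 0) = cycP j0 := by
    show σ.1 ((seven ^ n0.1).1 (cycP 0)) = _
    have hcomm := comm σ hσ
    have hit : ∀ (n : ℕ) (q), sevenF^[n] (σ.1 (sevenF^[n] q)) = σ.1 q := by
      intro n
      induction n with
      | zero => simp
      | succ n ih =>
        intro q
        rw [Function.iterate_succ_apply sevenF n (σ.1 _), Function.iterate_succ_apply' sevenF n q,
          hcomm, ih]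
    have hinj : Function.Injective (sevenF^[n0.1]) := fun u v h => by
      rw [← seven_pow_apply, ← seven_pow_apply] at h
      exact (seven ^ n0.1).1.injective h
    refine hinj ?_
    rw [seven_pow_apply, hit, hj0]
  choose f hf using fixI τ hτ
  have hcyc : ∀ i, ∃ j, ∃ n : Fin 7, τ.1 (cycP i) = sevenF^[n.1] (cycP j) := cycI τ hτ
  choose g m hg using hcyc
  have finj : ∀ i j, f i = f j → i = j := fun i j h =>
    hfinj _ _ (τ.1.injective (by rw [hf, hf, h]))
  have ginj : ∀ i j, g i = g j → i = j := by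
    intro i j h
    have e1 := back (cycP i) (Fin.ofNat 7 ((m i).1 + 7 - (m j).1))
    rw [hg] at e1
    refine hcinj i j (Fin.ofNat 7 ((m i).1 + 7 - (m j).1)) (τ.1.injective ?_)
    rw [e1, hg, h, ← Function.iterate_add_apply]
    have : ∀ (a b : Fin 7) (q : GolayPt), sevenF^[(7 - (Fin.ofNat 7 (a.1 + 7 - b.1)).1) % 7 + a.1] q =
        sevenF^[b.1] q := by decide +kernel
    exact this (m i) (m j) (cycP (g j))
  obtain ⟨π, hπ, hπf⟩ := perms3_spec f finj
  obtain ⟨ρ, hρ, hρg⟩ := perms3_spec g ginj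
  have hval : ∀ i, τ.1 (cycP i) =
      sevenF^[[0, (m 1).1, (m 2).1].getD i.1 0] (cycP (Fin.ofNat 3 (ρ.getD i.1 0))) := by
    intro i
    rw [hρg]
    fin_cases i
    · show τ.1 (cycP 0) = cycP (g 0)
      have e := hg 0
      rw [hτ0] at e
      rw [hτ0, hcinj (g 0) j0 (m 0) e.symm]
    · exact hg 1
    · exact hg 2
  have hτf : ∀ q, τ.1 q = candF (fun i => fixP (Fin.ofNat 3 (π.getD i.1 0)))
      (fun i => sevenF^[[0, (m 1).1, (m 2).1].getD i.1 0] (cycP (Fin.ofNat 3 (ρ.getD i.1 0)))) q := by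
    intro q
    obtain ⟨i, rfl | ⟨n, rfl⟩⟩ := hcov q
    · rw [(candF_spec i _ _).2, hπf, hf]
    · rw [(candF_spec i _ _).1 n, back, hval]
  have hno := no_candidate π hπ ρ hρ (m 1) (m 2)
  rw [← Bool.not_eq_true, List.all_eq_true] at hno
  refine hno fun b hb => ?_
  have hlt := basisList_lt b hb
  rw [inCode_iff, ← ptSet_mem_supports_iff (by
    have : ∀ (l : List ℕ) (acc : ℕ), acc < 2 ^ 24 → (l.foldl (fun acc i => acc |||
        (bif b.testBit i then 2 ^ idx (candF (fun i => fixP (Fin.ofNat 3 (π.getD i.1 0)))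
          (fun i => sevenF^[[0, (m 1).1, (m 2).1].getD i.1 0] (cycP (Fin.ofNat 3 (ρ.getD i.1 0))))
          (pt i)) else 0)) acc) < 2 ^ 24 := by
      intro l
      induction l with
      | nil => exact fun _ h => h
      | cons i t ih =>
        intro acc ha
        rw [List.foldl_cons]
        refine ih _ (Nat.or_lt_two_pow ha ?_)
        cases b.testBit i
        · norm_num
        · exact Nat.pow_lt_pow_right (by norm_num) (idx_lt _)
    exact this _ 0 (by norm_num)), fnImg_eq τ hτf]
  exact smul_mem_supports τ.2 ((ptSet_mem_supports_iff hlt).2 (mem_spanList_of_mem _ (List.mem_reverse.2 hb)))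

end Cfsg.Agent.H92.MonsterSeven
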